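import Groth.Agent.Lib.Helper13.AbutBasic
import Groth.Agent.S11919
import Groth.Agent.Lib.Helper7.Hypersurf
import Groth.Agent.Lib.Helper2.ExtShCoh.Coh

/-!
# Local-to-global vanishing of `Ext` (helper2)

If `ℰxt^j(F, G) = 0` for all `j < p` then `Ext^i(F, G) = 0` for all `i < p`.
-/

set_option autoImplicit false
set_option linter.style.haveILetI false
universe v u
open CategoryTheory CategoryTheory.Limits AlgebraicGeometry TopologicalSpace Opposite

noncomputable section

namespace Groth.Agent.Lib.Helper2.ExtVan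

section Abstract

variable {C : Type u} [Category.{v} C] [Abelian C] {r₀ : ℤ}
  {E : CohomologicalSpectralSequence C r₀} {H : ℤ → C}

open Groth.Agent.Lib.Helper13 in
/-- if all the terms `E_r^{p, n-p}` on the `n`-th antidiagonal of some page vanish, so does the
abutment `H n` (for a finite filtration). -/
theorem isZero_abut_of_isZero_page (a : SpSeq.Abutment E H) (n : ℤ) (hfin : a.IsFinite n)
    (r : ℤ) (hr : r₀ ≤ r) (h : ∀ p : ℤ, IsZero ((E.page r hr).X (p, n - p))) : IsZero (H n) := by
  obtain ⟨⟨t, ht⟩, ⟨b, hb⟩⟩ := hfin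
  have hsucc : ∀ p : ℤ, a.fil n (p + 1) = a.fil n p := fun p => abut_fil_succ_eq a n p r hr (h p)
  have hconst : ∀ p q : ℤ, a.fil n p = a.fil n q := by
    intro p q
    rcases le_total p q with hpq | hpq
    · exact (fil_eq_of_le_of_forall_succ_eq (a.fil n) p (fun p' _ => hsucc p') q hpq).symm
    · exact fil_eq_of_le_of_forall_succ_eq (a.fil n) q (fun p' _ => hsucc p') p hpq
  have htb : (⊤ : Subobject (H n)) = ⊥ := by
    have ht' : a.fil n t = ⊤ := ht
    have hb' : a.fil n b = ⊥ := hb
    rw [← ht', ← hb']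
    exact hconst t b
  rw [IsZero.iff_id_eq_zero]
  have h1 : (⊤ : Subobject (H n)).arrow = 0 := by
    rw [htb]; exact Subobject.bot_arrow
  have h2 : IsIso (⊤ : Subobject (H n)).arrow := inferInstance
  rw [← cancel_epi (⊤ : Subobject (H n)).arrow, h1, zero_comp, zero_comp]

end Abstract

/-- **local-to-global vanishing**: if the local `ℰxt^j(F, G)` vanish for `j < p`, so do the
global `Ext^i(F, G)` for `i < p`. -/
theorem subsingleton_ext_of_isZero_extSh (X : Scheme.{u}) (F G : X.Modules)
    [ModSite.HasSheafHom (O := X.sheaf) F] [HasInjectiveResolutions (ModSite.Mod X.sheaf)]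
    [HasExt.{u} X.Modules] (p : ℕ)
    (h : ∀ j : ℕ, j < p → IsZero ((ModSite.extSh (O := X.sheaf) F j).obj G)) (i : ℕ) (hi : i < p) :
    Subsingleton (Abelian.Ext F G i) := by
  obtain ⟨E, a, hfin, -, hE2⟩ := Groth.Agent.S11919.result X F G
  have hz := isZero_abut_of_isZero_page a (i : ℤ) (hfin i) 2 le_rfl (fun q => ?_)
  · have h0 : (0 : ℤ) ≤ (i : ℤ) := Int.natCast_nonneg i
    simp only [h0, if_true, Int.toNat_natCast] at hz
    exact AddCommGrpCat.subsingleton_of_isZero hz
  · obtain ⟨e⟩ := hE2 q (i - q)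
    refine IsZero.of_iso ?_ e
    split_ifs with hc
    · haveI := Groth.Agent.Lib.Helper7.Hypersurf.subsingleton_HH_of_isZero _
        (h (i - q).toNat (by omega)) q.toNat
      exact AddCommGrpCat.isZero_of_subsingleton _
    · exact isZero_zero _

end Groth.Agent.Lib.Helper2.ExtVan
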