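import Groth.Agent.Lib.Helper2.ExtVan.RegSeq
import Groth.Agent.Lib.Helper2.ExtVan.LocGlob
import Groth.Agent.Lib.Helper3.LocFreeCrit

/-!
# `Ext^q(i_* F, E) = 0` below the codimension of a regular closed immersion (helper2)
-/

set_option autoImplicit false
set_option linter.style.haveILetI false
universe u
open CategoryTheory CategoryTheory.Limits AlgebraicGeometry TopologicalSpace Opposite
open Scheme.Modules

noncomputable section

namespace Groth.Agent.Lib.Helper2.ExtVan

open Groth.Agent.Lib.Helper2.ExtDepth Groth.Agent.Lib.Helper3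
open Groth.Agent.Lib.Lead.HomExt Groth.Agent.Lib.Helper3.QCSec Groth.Agent.Lib.Helper3.HomMk

variable {X : Scheme.{u}}

section Chart

variable {V : X.Opens} (hV : IsAffineOpen V)

/-- chart form of the vanishing of `ℰxt^i(G, F)` below the length of a regular sequence. -/
theorem isZero_restrict_extSh_of_isWeaklyRegular (G F : X.Modules) [F.IsQuasicoherent]
    [ModSite.HasSheafHom (O := X.sheaf) G] [HasInjectiveResolutions (ModSite.Mod X.sheaf)]
    (rs : List Γ(X, V))
    (hG : ∀ r ∈ rs, mulHom (gf (R := Γ(X, V)) r) (G.restrict hV.fromSpec) = 0)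
    (hF : RingTheory.Sequence.IsWeaklyRegular Γ(F, V) rs) (i : ℕ) (hi : i < rs.length) :
    IsZero (Scheme.Modules.restrict (Y := X)
      ((ModSite.extSh (O := X.sheaf) G i).obj F) V.ι) := by
  refine isZero_restrict_extSh_of_chart hV G F i ?_
  let R : CommRingCat.{u} := Γ(X, V)
  let G' : (Spec R).Modules := G.restrict hV.fromSpec
  let F' : (Spec R).Modules := F.restrict hV.fromSpec
  haveI : F'.IsQuasicoherent := inferInstance
  let M : ModuleCat.{u} R := (modulesSpecToSheaf.obj F').presheaf.obj (op ⊤)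
  haveI : IsIso F'.fromTildeΓ := Scheme.Modules.isIso_fromTildeΓ_of_isQuasicoherent F'
  let eF0 := asIso F'.fromTildeΓ
  let eF : (tilde.functor R).obj M ≅ F' := eF0
  have hM : RingTheory.Sequence.IsWeaklyRegular M rs :=
    ((QCTilde.chartSectionsEquiv hV F).symm.isWeaklyRegular_congr rs).mp hF
  exact isZero_extSh_of_iso (Iso.refl G') eF i
    (isZero_extSh_of_isWeaklyRegular G' rs hG M hM i hi)

end Chart

section Kill

variable {U : X.Opens} (hU : IsAffineOpen U)

include hU in
theorem image_fromSpec_le (W : (Spec Γ(X, U)).Opens) : hU.fromSpec ''ᵁ W ≤ U := by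
  rintro _ ⟨y, -, rfl⟩
  have : hU.fromSpec y ∈ Set.range hU.fromSpec := ⟨y, rfl⟩
  rw [hU.range_fromSpec] at this
  exact this

theorem map_comp_appIso_hom (W : (Spec Γ(X, U)).Opens) :
    X.presheaf.map (homOfLE (image_fromSpec_le hU W)).op ≫ (hU.fromSpec.appIso W).hom =
      (Scheme.ΓSpecIso Γ(X, U)).inv ≫ (Spec Γ(X, U)).presheaf.map (homOfLE le_top).op := by
  rw [Scheme.Hom.appIso_hom, Scheme.Hom.naturality_assoc, hU.fromSpec_app_self, Category.assoc,
    ← Functor.map_comp, ← Functor.map_comp]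
  rfl

theorem appIso_inv_rT_gf (r : Γ(X, U)) (W : (Spec Γ(X, U)).Opens) :
    (hU.fromSpec.appIso W).inv (rT (gf (R := Γ(X, U)) r) W) =
      rres X (image_fromSpec_le hU W) r := by
  have h := congrArg (fun φ => φ r) (congrArg (fun φ => (φ ≫ (hU.fromSpec.appIso W).inv).hom)
    (map_comp_appIso_hom hU W))
  simp only [Category.assoc, Iso.hom_inv_id, Category.comp_id] at h
  exact h.symm

/-- a function in the kernel of `Γ(X, U) ⟶ Γ(Z, i⁻¹ U)` kills the chart restriction of `i_* F`. -/
theorem mulHom_gf_restrict_pushforward_eq_zero {Z : Scheme.{u}} (i : Z ⟶ X) (F : Z.Modules)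
    (r : Γ(X, U)) (hr : (i.app U).hom r = 0) :
    mulHom (gf (R := Γ(X, U)) r)
      (Scheme.Modules.restrict (Y := X) ((Scheme.Modules.pushforward i).obj F) hU.fromSpec) = 0 := by
  ext W s
  change rT (gf (R := Γ(X, U)) r) W • s = 0
  have key : (i.app (hU.fromSpec ''ᵁ W)).hom
      ((hU.fromSpec.appIso W).inv (rT (gf (R := Γ(X, U)) r) W)) = 0 := by
    rw [appIso_inv_rT_gf]
    have h1 := congrArg (fun φ => φ.hom r) (i.naturality (homOfLE (image_fromSpec_le hU W)).op)
    simp only [CommRingCat.hom_comp, RingHom.coe_comp, Function.comp_apply] at h1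
    rw [hr, map_zero] at h1
    exact h1
  have h2 : rT (gf (R := Γ(X, U)) r) W • s =
      (show Γ(F, i ⁻¹ᵁ (hU.fromSpec ''ᵁ W)) from
        ((i.app (hU.fromSpec ''ᵁ W)).hom
          ((hU.fromSpec.appIso W).inv (rT (gf (R := Γ(X, U)) r) W))) •
            (show Γ(F, i ⁻¹ᵁ (hU.fromSpec ''ᵁ W)) from s)) := rfl
  rw [h2, key, zero_smul]
  rfl

end Kill

section Main

variable {Z : Scheme.{u}} (i : Z ⟶ X) [IsClosedImmersion i]

/-- away from the image, the chart restriction of `i_* F` vanishes. -/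
theorem isZero_restrict_pushforward_of_disjoint (F : Z.Modules) {V : X.Opens}
    (hV : IsAffineOpen V) (hdisj : ∀ y : Z, i y ∉ V) :
    IsZero (Scheme.Modules.restrict (Y := X) ((Scheme.Modules.pushforward i).obj F)
      hV.fromSpec) := by
  rw [IsZero.iff_id_eq_zero]
  apply Scheme.Modules.hom_ext
  intro W
  ext s
  haveI : Subsingleton Γ(F, i ⁻¹ᵁ (hV.fromSpec ''ᵁ W)) :=
    Groth.Agent.Lib.Helper13.ClImmPush.subsingleton_sections_of_eq_bot F _ (by
      ext y
      simp only [Opens.coe_bot, Set.mem_empty_iff_false, iff_false]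
      intro hy
      exact hdisj y (image_fromSpec_le hV W hy))
  exact Subsingleton.elim (α := Γ(F, i ⁻¹ᵁ (hV.fromSpec ''ᵁ W))) _ _

/-- **`ℰxt^q(i_* F, E) = 0` for `q < c`**, `i` a regular closed immersion of codimension `c`,
`E` finite locally free, `F` arbitrary. -/
theorem isZero_extSh_pushforward_of_regularImmersion (c : ℕ)
    (hi : RegImm.IsRegularImmersionOfCodim RegImm.Kind.regular c i) (E : X.Modules)
    (hE : FlatMod.IsFinLocFree E) (F : Z.Modules)
    [ModSite.HasSheafHom (O := X.sheaf) ((Scheme.Modules.pushforward i).obj F)]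
    [HasInjectiveResolutions (ModSite.Mod X.sheaf)] (q : ℕ) (hq : q < c) :
    IsZero ((ModSite.extSh (O := X.sheaf) ((Scheme.Modules.pushforward i).obj F) q).obj E) := by
  haveI : E.IsQuasicoherent := LocFreeCrit.isQuasicoherent_of_isFinLocFree hE
  apply isZero_of_locally_isZero
  intro x
  by_cases hx : x ∈ Set.range i
  · obtain ⟨z, rfl⟩ := hx
    obtain ⟨U, hzU, -, rs, hlen, hseq, hker⟩ := hi.2 z
    refine ⟨U.1, hzU, ?_⟩
    have hreg : RingTheory.Sequence.IsRegular Γ(X, U.1) rs := hseq
    obtain ⟨hfin, hproj⟩ := LocFreeCrit.finite_projective_sections hE U.2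
    haveI : Module.Flat Γ(X, U.1) Γ(E, U.1) := inferInstance
    have hF : RingTheory.Sequence.IsWeaklyRegular Γ(E, U.1) rs :=
      ((TensorProduct.lid Γ(X, U.1) Γ(E, U.1)).isWeaklyRegular_congr rs).mp
        (hreg.toIsWeaklyRegular.isWeaklyRegular_rTensor (M₂ := Γ(E, U.1)))
    have hG : ∀ r ∈ rs, mulHom (gf (R := Γ(X, U.1)) r)
        (Scheme.Modules.restrict (Y := X) ((Scheme.Modules.pushforward i).obj F)
          U.2.fromSpec) = 0 := by
      intro r hr
      refine mulHom_gf_restrict_pushforward_eq_zero U.2 i F r ?_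
      have hmem : r ∈ RingHom.ker (i.app U.1).hom := by
        rw [hker]
        exact Ideal.subset_span hr
      exact hmem
    exact isZero_restrict_extSh_of_isWeaklyRegular U.2 _ E rs hG hF q (by rw [hlen]; exact hq)
  · have hopen : IsOpen (Set.range i)ᶜ := i.isClosedEmbedding.isClosed_range.isOpen_compl
    obtain ⟨_, ⟨V, hV : IsAffineOpen V, rfl⟩, hxV, hVsub⟩ :=
      X.isBasis_affineOpens.exists_subset_of_mem_open hx hopen
    refine ⟨V, hxV, isZero_restrict_extSh_of_chart hV _ E q ?_⟩
    exact isZero_extSh_of_isZero _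
      (isZero_restrict_pushforward_of_disjoint i F hV (fun y hy => hVsub hy ⟨y, rfl⟩)) q _

end Main

end Groth.Agent.Lib.Helper2.ExtVan
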