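import Groth.Agent.Lib.Helper2.ExtDepth.Global

/-!
# Vanishing of `ℰxt^i(G, M~)` below the length of an `M`-regular sequence killing `G` (helper2)

No finiteness or Noetherian hypotheses.
-/

set_option autoImplicit false
set_option linter.style.haveILetI false
universe u
open CategoryTheory CategoryTheory.Limits AlgebraicGeometry TopologicalSpace Opposite
open Scheme.Modules

noncomputable section

namespace Groth.Agent.Lib.Helper2.ExtVan

open Groth.Agent.Lib.Helper2.ExtDepth
open Groth.Agent.Lib.Lead.HomExt Groth.Agent.Lib.Helper3.QCSec Groth.Agent.Lib.Helper3.HomMk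

/-- affine case: if every element of a weakly `M`-regular sequence `rs` kills `G`, then
`ℰxt^i(G, M~) = 0` for `i < rs.length`. -/
theorem isZero_extSh_of_isWeaklyRegular {R : CommRingCat.{u}} (G : (Spec R).Modules)
    [ModSite.HasSheafHom (O := (Spec R).sheaf) G]
    [HasInjectiveResolutions (ModSite.Mod (Spec R).sheaf)] :
    ∀ (rs : List R), (∀ r ∈ rs, mulHom (gf r) G = 0) → ∀ (M : ModuleCat.{u} R),
      RingTheory.Sequence.IsWeaklyRegular M rs → ∀ i : ℕ, i < rs.length →
        IsZero ((ModSite.extSh (O := (Spec R).sheaf) G i).obj ((tilde.functor R).obj M)) := by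
  haveI hEI : EnoughInjectives (ModSite.Mod (Spec R).sheaf) :=
    Groth.Agent.Lib.Helper13.ModGrothendieck.enoughInjectives (Spec R).ringCatSheaf
  haveI := ModSite.sheafHom_additive (Spec R).sheaf G
  intro rs
  induction rs with
  | nil => intro _ M _ i hi; exact absurd hi (Nat.not_lt_zero i)
  | cons r rs ih =>
    intro hG M hM i hi
    rw [RingTheory.Sequence.isWeaklyRegular_cons_iff] at hM
    obtain ⟨hr, hQ⟩ := hM
    have hS := tilde_smul_shortExact M hr
    have ih' := ih (fun r' h' => hG r' (List.mem_cons_of_mem _ h'))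
      (ModuleCat.of R (QuotSMulTop r M)) hQ
    refine isZero_rightDerived_X₁ (ModSite.sheafHom (O := (Spec R).sheaf) G)
      _ hS rs.length (fun i' _ => ?_) (fun j hj => ih' j hj) i
      (Nat.lt_succ_iff.mp (by simpa using hi))
    have h2 := extSh_map_mulHom_eq_zero (gf r) G (hG r List.mem_cons_self) i'
      ((tilde.functor R).obj M)
    rw [← tilde_map_smul] at h2
    exact h2

/-- a zero module has zero local Ext sheaves. -/
theorem isZero_extSh_of_isZero {X : Scheme.{u}} (G : X.Modules) (hG : IsZero G)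
    [ModSite.HasSheafHom (O := X.sheaf) G] [HasInjectiveResolutions (ModSite.Mod X.sheaf)]
    (i : ℕ) (N : X.Modules) : IsZero ((ModSite.extSh (O := X.sheaf) G i).obj N) := by
  have h1 := extSh_map_mulHom_eq_zero (1 : Γ(X, ⊤)) G (hG.eq_of_src _ _) i N
  have h2 : mulHom (1 : Γ(X, ⊤)) N = 𝟙 N := by
    ext U s
    change rT (1 : Γ(X, ⊤)) U • s = s
    rw [show rT (1 : Γ(X, ⊤)) U = 1 from map_one _, one_smul]
  rw [h2] at h1
  rw [IsZero.iff_id_eq_zero]
  exact ((ModSite.extSh (O := X.sheaf) G i).map_id _).symm.trans h1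

end Groth.Agent.Lib.Helper2.ExtVan
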