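import Groth.Agent.Lib.Helper2.ExtDepth.RegularDepth
import Groth.Agent.Lib.Helper22.SmoothRelDim
import Groth.Agent.Lib.Helper26.RegularSch

/-!
# Dimension of local rings on a scheme smooth of relative dimension `n` over a field (helper2)
-/

set_option autoImplicit false
set_option linter.style.haveILetI false
universe u
open CategoryTheory CategoryTheory.Limits AlgebraicGeometry TopologicalSpace Opposite

noncomputable section

namespace Groth.Agent.Lib.Helper2.ExtVan

open Groth.Agent.Lib.Helper12 Groth.Agent.Lib.Helper12.SchemeDimFT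
  Groth.Agent.Lib.Helper12.SchemeDimIneq Groth.Agent.Lib.Helper12.Equidim

/-- the local dimension of a scheme smooth of relative dimension `n` over a field is `n`. -/
theorem localDim_eq_of_smooth (k : Type u) [Field k] (n : ℕ) (X : Scheme.{u})
    [X.Over (Spec (CommRingCat.of k))]
    [SmoothOfRelativeDimension n (X ↘ Spec (CommRingCat.of k))] (x : X) :
    FlatMor.localDim X x = (n : WithBot ℕ∞) := by
  obtain ⟨U, hU, V, hV, hxV, e, hss⟩ :=
    SmoothOfRelativeDimension.exists_isStandardSmoothOfRelativeDimension (n := n)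
      (f := X ↘ Spec (CommRingCat.of k)) x
  have hUtop : U = ⊤ := by
    ext z
    simp only [TopologicalSpace.Opens.coe_top, Set.mem_univ, iff_true]
    have : z = (X ↘ Spec (CommRingCat.of k)).base x := Subsingleton.elim _ _
    rw [this]; exact e hxV
  subst hUtop
  have hfield : IsField Γ(Spec (CommRingCat.of k), ⊤) :=
    MulEquiv.isField (Field.toIsField k)
      (Scheme.ΓSpecIso (CommRingCat.of k)).commRingCatIsoToRingEquiv.toMulEquiv
  letI : Field Γ(Spec (CommRingCat.of k), ⊤) := hfield.toField
  letI : Algebra Γ(Spec (CommRingCat.of k), ⊤) Γ(X, V) :=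
    ((X ↘ Spec (CommRingCat.of k)).appLE ⊤ V e).hom.toAlgebra
  haveI hsm : Algebra.IsStandardSmoothOfRelativeDimension n Γ(Spec (CommRingCat.of k), ⊤)
      Γ(X, V) := hss
  haveI : Algebra.FiniteType Γ(Spec (CommRingCat.of k), ⊤) Γ(X, V) := by
    haveI : Algebra.IsStandardSmooth Γ(Spec (CommRingCat.of k), ⊤) Γ(X, V) :=
      Algebra.IsStandardSmoothOfRelativeDimension.isStandardSmooth n
    haveI : Algebra.FinitePresentation Γ(Spec (CommRingCat.of k), ⊤) Γ(X, V) :=
      inferInstance
    infer_instance
  rw [SchemeDimFT.localDim_eq_primeSpectrum hV ⟨x, hxV⟩,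
    DimFT2.localDim_primeSpectrum Γ(Spec (CommRingCat.of k), ⊤) Γ(X, V),
    Groth.Agent.Lib.Helper22.SmoothRelDim.height_add_coheight_of_isStandardSmooth
      Γ(Spec (CommRingCat.of k), ⊤) n Γ(X, V)]
  rfl

section Smooth

variable (k : Type u) [Field k] (n : ℕ) (X : Scheme.{u}) [X.Over (Spec (CommRingCat.of k))]
  [SmoothOfRelativeDimension n (X ↘ Spec (CommRingCat.of k))]

include k n in
theorem locallyOfFiniteType_of_smooth : LocallyOfFiniteType (X ↘ Spec (CommRingCat.of k)) := by
  haveI : Smooth (X ↘ Spec (CommRingCat.of k)) := SmoothOfRelativeDimension.smooth n _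
  infer_instance

include k n in
theorem isRegularLocalRing_stalk_of_smooth (x : X) : IsRegularLocalRing (X.presheaf.stalk x) := by
  haveI : Smooth (X ↘ Spec (CommRingCat.of k)) := SmoothOfRelativeDimension.smooth n _
  exact Groth.Agent.Lib.Helper26.RegularSch.isRegularLocalRing_stalk_of_smooth_field k
    (X ↘ Spec (CommRingCat.of k)) x

/-- `trdeg κ(x) + dim O_x = n` on a scheme smooth of relative dimension `n` over a field. -/
theorem tr_add_ringKrullDim_stalk_of_smooth (x : X) :
    haveI := locallyOfFiniteType_of_smooth k n X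
    ∃ b : ℕ, ringKrullDim (X.presheaf.stalk x) = b ∧ tr k X x + b = n := by
  haveI := locallyOfFiniteType_of_smooth k n X
  obtain ⟨b, hb⟩ := exists_ringKrullDim_stalk_eq k X x
  refine ⟨b, hb, ?_⟩
  have h1 := localDim_eq_of_smooth k n X x
  rw [localDim_eq k X x _ b (tr_spec k X x) hb] at h1
  exact_mod_cast h1

include k n in
/-- at a point of a closed subset of dimension `≤ n - p`, the local ring has dimension `≥ p`. -/
theorem natCast_le_ringKrullDim_stalk_of_mem (Z : Set X) (hZ : IsClosed Z) (p : ℕ)
    (hdim : topologicalKrullDim ↥Z + p ≤ n) (x : X) (hx : x ∈ Z) :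
    (p : WithBot ℕ∞) ≤ ringKrullDim (X.presheaf.stalk x) := by
  haveI := locallyOfFiniteType_of_smooth k n X
  obtain ⟨b, hb, hsum⟩ := tr_add_ringKrullDim_stalk_of_smooth k n X x
  have hsub : closure ({x} : Set X) ⊆ Z :=
    closure_minimal (Set.singleton_subset_iff.mpr hx) hZ
  have hind : Topology.IsInducing (Set.inclusion hsub) :=
    (Topology.IsEmbedding.inclusion hsub).isInducing
  have h1 := hind.topologicalKrullDim_le
  rw [topologicalKrullDim_closure_singleton k X x] at h1
  have h2 : ((tr k X x : ℕ) : WithBot ℕ∞) + p ≤ n := (add_le_add_left h1 _).trans hdim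
  have h3 : tr k X x + p ≤ n := by exact_mod_cast h2
  rw [hb]
  have h4 : p ≤ b := by omega
  exact_mod_cast h4

end Smooth

end Groth.Agent.Lib.Helper2.ExtVan
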